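import Cfsg.Agent.Lib.PG.Iso
import Cfsg.Agent.Lib.PG.Gen
import Cfsg.Agent.Lib.Spor.Cent

set_option autoImplicit false
set_option maxRecDepth 100000
set_option Elab.async false
set_option exponentiation.threshold 100000

namespace Cfsg.Agent.Spor.J4B
open Cfsg.Agent.PG

noncomputable def n0 : Net :=
 .nil

noncomputable def n1 : Net :=
 .nil

noncomputable def n2 : Net :=
 .nil

noncomputable def n3 : Net :=
 .nil

noncomputable def n4 : Net :=
 .nil

noncomputable def n5 : Net :=
 .nil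

noncomputable def n6 : Net :=
 .nil

noncomputable def n7 : Net :=
 .nil

noncomputable def n8 : Net :=
 .nil

noncomputable def n9 : Net :=
 .nil

noncomputable def n10 : Net :=
 .nil

noncomputable def n11 : Net :=
 .nil

noncomputable def n12 : Net :=
 .nil

noncomputable def n13 : Net :=
 .nil

noncomputable def n14 : Net :=
 .nil

noncomputable def n15 : Net :=
 .nil

noncomputable def n16 : Net :=
 .nil

noncomputable def n17 : Net :=
 .nil

noncomputable def n18 : Net :=
 .nil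

noncomputable def n19 : Net :=
 .nil

noncomputable def n20 : Net :=
 .nil

noncomputable def n21 : Net :=
 .nil

noncomputable def n22 : Net :=
 .nil

noncomputable def n23 : Net :=
 .nil

noncomputable def n24 : Net :=
 .nil

noncomputable def n25 : Net :=
 .nil

noncomputable def n26 : Net :=
 (.cons 64 0xddc7d8a4a12293b5
 (.cons 32 0xed01edc40000000006181f55
 (.cons 16 0x35040000c4920000324200004943
 (.cons 8 0xc00018006000060012001d0042002a
 (.cons 4 0x800040203080402060300010d0c09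
 (.cons 2 0x10002010021012220200000210022000
 (.cons 1 0x50040040014040411404110101444051
 (.cons 2 0x20000002000200202000200000000
 (.cons 4 0x800080a0200040004000000040800
 (.cons 8 0xc4007800e000000002001000010042
 (.cons 16 0x440000044900000324200000b03
 (.cons 32 0x6c0135e0000000000408384c
 (.cons 64 0xddc7d8a4a122850e
 .nil)))))))))))))

noncomputable def n27 : Net :=
 (.cons 64 0x3035a0030a095e09
 (.cons 32 0x32203202000000001a464a49
 (.cons 16 0x21500005d400000000700000d62
 (.cons 8 0x20005002500300001004c005000e4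
 (.cons 4 0xb02010200040500010804000a04
 (.cons 2 0x300000300321001020200000000
 (.cons 1 0x11010100410504040015045405004
 (.cons 2 0x100000000000000010200002
 (.cons 4 0x8020106000c040801080400000c
 (.cons 8 0x200050004001000010002001000a0
 (.cons 16 0x14000055400000008f00000dd2
 (.cons 32 0x32203202000000001ac40085
 (.cons 64 0x3035a0030a095609
 .nil)))))))))))))

noncomputable def n28 : Net :=
 (.cons 64 0xc6220267a0404015
 (.cons 32 0x20363000000004c14f6c0
 (.cons 16 0x42600000004b00005a580000c581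
 (.cons 8 0x60004100a000400030004000d00000
 (.cons 4 0x2000004000c020008010d00080c0301
 (.cons 2 0x22000021002100001100201020200200
 (.cons 1 0x44000041000414404114404011040114
 (.cons 2 0x2000020000000000020000021010021
 (.cons 4 0x600000909000009060201
 (.cons 8 0x60004100a000220021001800540030
 (.cons 16 0x40600000000900004b080000c488
 (.cons 32 0x800201030000000054097bc0
 (.cons 64 0xc6220267a0404815
 .nil)))))))))))))

noncomputable def n29 : Net :=
 (.cons 64 0x6609410c0112842
 (.cons 32 0x8221c400000000008ab71e1e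
 (.cons 16 0x40100000421000006b0c0000a302
 (.cons 8 0x9a00a20008002b000a
 (.cons 4 0x80004000000020801020103000e0e00
 (.cons 2 0x101000000010200202012322332320
 (.cons 1 0x4000000001044454000104411500104
 (.cons 2 0x2001000002022000000
 (.cons 4 0x801040000000a000a0006010008040c
 (.cons 8 0x4000000000006a00820041002a0002
 (.cons 16 0x4410000042200000320c0000a38a
 (.cons 32 0x8221c400000000008a3b1474
 (.cons 64 0x6609410c0112842
 .nil)))))))))))))

noncomputable def n30 : Net :=
 (.cons 64 0x4047c00228001687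
 (.cons 32 0x100a2000000007804240e
 (.cons 16 0xc0a0000029010000ce040000af3c
 (.cons 8 0xc0000000000012008000b400b20003
 (.cons 4 0xc000002000409030000020b010001
 (.cons 2 0x200000020022100100011001231212
 (.cons 1 0x40440000010044401004401114054111
 (.cons 2 0x220000000022002000102002002220
 (.cons 4 0x80000020000080200000a00050009
 (.cons 8 0x12009c00200083000b
 (.cons 16 0x80a0000021010000d98000000c85
 (.cons 32 0x100a2000000007a942626
 (.cons 64 0x4047c00228001687
 .nil)))))))))))))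

noncomputable def n31 : Net :=
 (.cons 64 0x20808000000100a
 (.cons 32 0x20008000000000035802890
 (.cons 16 0x800000010000000650900008108
 (.cons 8 0x80000000000600064002d00810005
 (.cons 4 0x20004020c0300010c08000f
 (.cons 2 0x3030011110203033022
 (.cons 1 0x100005450041004040450044
 (.cons 2 0x22000000000022
 (.cons 4 0x2000402000c00000c080000
 (.cons 8 0x600064000d00810005
 (.cons 16 0x800000010000000650900008108
 (.cons 32 0x20008000000000024802880
 (.cons 64 0x20808000000100a
 .nil)))))))))))))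

noncomputable def n32 : Net :=
 (.cons 64 0x18041441c10800
 (.cons 32 0x1842010000000014c34420
 (.cons 16 0x508c000045240000a6c8
 (.cons 8 0x4000900010009000a800d000c4
 (.cons 4 0x808060000010a000804080c
 (.cons 2 0x211020113020020122320120030
 (.cons 1 0x400014005400401014040014150
 (.cons 2 0x200020000000000022000022000
 (.cons 4 0x8080600000108000804080c
 (.cons 8 0x4000800010009000a800500044
 (.cons 16 0x508c0000452400000e08
 (.cons 32 0x1842010000000014c30420
 (.cons 64 0x18041441c10800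
 .nil)))))))))))))

noncomputable def A : List Net := [n0, n1, n2, n3, n4, n5, n6, n7, n8, n9, n10, n11, n12, n13, n14, n15, n16, n17, n18, n19, n20, n21, n22, n23, n24, n25, n26, n27, n28, n29, n30, n31, n32]

theorem hA : okA (2 ^ 7) A = true := by decide +kernel

theorem hlen : A.length = 33 := rfl

open Cfsg.Agent.Spor

def tr5 : List ℕ := [1, 0x13e, 0x140, 0x13e40]

def ce5 : List (List (ℕ × ℕ)) := [[(1, 1), (2, 1)],
  [(0, 1), (3, 1)],
  [(3, 1), (0, 1)],
  [(2, 1), (1, 1)]]

noncomputable def cl5_l : List Claim := plainClaims 31 tr5 ce5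

def tr4 : List ℕ := [1, 0x13c, 0x13d, 0x13c3c, 0x13c40, 0x13d40]

def ce4 : List (List (ℕ × ℕ)) := [[(1, 1), (0, 0x13e), (0, 0x140)],
  [(3, 1), (2, 0x13e), (4, 1)],
  [(0, 1), (1, 0x13e), (5, 1)],
  [(2, 1), (3, 0x13e), (3, 0x13e40)],
  [(5, 0x140), (5, 0x13e), (1, 1)],
  [(4, 0x13e40), (4, 0x13e), (2, 1)]]

noncomputable def cl4_l : List Claim := plainClaims 30 tr4 ce4

def cj3 : List ℕ := [0x13e3d, 0x13e3c]

def reps3 : List Rep := [⟨1, [(0x13c, 0x13c), (0x13e, 0x13e), (0x140, 0x140)],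
   [(1, 1, 1, 1)], 3⟩,
  ⟨0x13a, [(0x13c3c, 0x13e40), (0x13e3c, 0x140)],
   [(1, 1, 2, 1),
    (0x1413d, 1, 0, 0x13c40),
    (0x1413c, 0x13c, 1, 0x13e403c3c)], 2⟩,
  ⟨0x13a3a, [(0x13e3c40, 0x13e403c)],
   [(1, 0x1403d, 1, 0x1403d),
    (0x13c, 0x13e, 2, 0x13d)], 3⟩]

noncomputable def cl3_l : List Claim := dcClaims 29 31 cj3 reps3

def cj2 : List ℕ := [0x13e3c3c3b, 0x1403a3a40, 0x13e3d3b3d3a]

def reps2 : List Rep := [⟨1, [(0x13a, 0x13a), (0x13c, 0x13c), (0x13e, 0x13e), (0x140, 0x140)],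
   [(1, 1, 1, 1)], 3⟩,
  ⟨0x138, [(0x1403a3c, 0x13d), (0x13d41, 0x13e3c40)],
   [(1, 0x13a, 1, 0x1403a3a3e),
    (0x13b, 0x13b40, 1, 0x1403c3c3a40),
    (0x13b3d3b, 1, 0, 0x13a3c3a)], 4⟩]

noncomputable def cl2_l : List Claim := dcClaims 28 30 cj2 reps2

def cj1 : List ℕ := [0x13e3c3c3a3a3d38383a, 0x1403c3c3a393a, 0x1403a3c3a39, 0x1403d3939]

def reps1 : List Rep := [⟨1, [(0x138, 0x138), (0x13a, 0x13a), (0x13c, 0x13c), (0x13e, 0x13e), (0x140, 0x140)],
   [(1, 1, 1, 1)], 3⟩,
  ⟨0x136, [(0x13e383f, 0x13e3d3a3a403c), (0x1393a38, 0x13e403c3a3a3c)],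
   [(1, 1, 2, 1),
    (0x139, 1, 0, 0x13e3d403a3a4038)], 4⟩,
  ⟨0x13636, [(0x13e3a3a3d383b38, 0x13e403b3d3a38), (0x13e3b3d3a, 0x13e403d3a3c3a383c)],
   [(1, 0x139, 1, 0x1403a3a3d38383d),
    (0x138, 0x13c39, 2, 0x1403d3a3a383d)], 4⟩]

noncomputable def cl1_l : List Claim := dcClaims 27 29 cj1 reps1

def tr0 : List ℕ := [1, 0x134]

def ce0 : List (List (ℕ × ℕ)) := [[(1, 1), (0, 0x137), (0, 0x139), (0, 0x13b), (0, 0x13d), (0, 0x13e), (0, 0x140)],
  [(0, 0x13e403c403a383b3836364037), (1, 0x13e3d3a40393a3638363e), (1, 0x13d403b3d3936383a), (1, 0x13e403d403b3d3838363c), (1, 0x13e403c3a3a3d393a363b36), (1, 0x1403c3c3b38383d3739363b), (1, 0x13e3b36363a3e)]]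

noncomputable def cl0_l : List Claim := plainClaims 26 tr0 ce0

def zcs1 : List (List ℕ × List ℕ × ℕ) := [([0x027c], [0x13e3a3a403836, 0x13e37], 1),
  ([0x0280], [0x1403a3a3837, 0x136], 1)]

noncomputable def zcls1_l : List Claim := zClaims [0x027a6e] zcs1

noncomputable def yp1_l : List Claim := [(powP [0x027a6e] 11, [])]

def flv : List (ℕ × List (List ℕ) × ℕ × ℕ) := [(2, [[0x0280788074787670786c6c707868], [0x028074787470786c706e68]], 6, 77),
  (3, [[0x027c7878747480787070746c7a726c68], [0x02807874748078707074]], 6, 60),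
  (4, [[0x027c7a747874726c7a726c68], [0x02788074747a72746c7a726c68]], 5, 12),
  (5, [[0x027c7878726c7a726c68], [0x027c807878767a70786c7a726c68], [0x027c787874787672746c7a726c68]], 3, 16)]

theorem cl5_0 : chk A 7 (cl5_l) = true := by decide +kernel

theorem ok5 : plainOK A 31 33 8 tr5 ce5 = true := by decide +kernel

theorem orb5 : orbCardB A 4 31 8 2 4 = true := by decide +kernel

theorem cl4_0 : chk A 7 (cl4_l) = true := by decide +kernel

theorem ok4 : plainOK A 30 31 21 tr4 ce4 = true := by decide +kernel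

theorem orb4 : orbCardB A 4 30 21 3 6 = true := by decide +kernel

theorem cl3_0 : chk A 7 (cl3_l) = true := by decide +kernel

theorem ok3 : dcOK A 29 31 9 21 3 cj3 reps3 = true := by decide +kernel

theorem orb3 : orbCardB A 4 29 9 3 15 = true := by decide +kernel

theorem cl2_0 : chk A 7 (cl2_l) = true := by decide +kernel

theorem ok2 : dcOK A 28 30 26 9 3 cj2 reps2 = true := by decide +kernel

theorem orb2 : orbCardB A 4 28 26 3 16 = true := by decide +kernel

theorem cl1_0 : chk A 7 (cl1_l) = true := by decide +kernel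

theorem ok1 : dcOK A 27 29 2 26 3 cj1 reps1 = true := by decide +kernel

theorem orb1 : orbCardB A 4 27 2 4 77 = true := by decide +kernel

theorem cl0_0 : chk A 7 (cl0_l) = true := by decide +kernel

theorem ok0 : plainOK A 26 27 0 tr0 ce0 = true := by decide +kernel

theorem orb0 : orbCardB A 4 26 0 2 2 = true := by decide +kernel

theorem maxok1 : maxOK A 27 28 2 4 4 5 [0x136, 0x13636] = true := by decide +kernel

theorem ncloks1_5 : nclOK A 31 33 8 2 [[0x027c], [0x0280]] [(1, 0), (1, 1)] = true := by decide +kernel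

theorem ncloks1_4 : nclOK A 30 31 21 3 [] [(1, 0), (1, 1), (0x13d40, 1)] = true := by decide +kernel

theorem ncloks1_3 : nclOK A 29 30 9 5 [] [(1, 0), (1, 1), (1, 2), (0x13a3a403c, 1)] = true := by decide +kernel

theorem ncloks1_2 : nclOK A 28 29 26 5 [] [(1, 0), (1, 1), (1, 2), (1, 3), (0x1383d39, 3)] = true := by decide +kernel

theorem ncloks1_1 : nclOK A 27 28 2 4 [] [(1, 0), (1, 1), (1, 2), (1, 3), (1, 4), (0x13739, 1)] = true := by decide +kernel

theorem zcls1_0 : chk A 7 (zcls1_l) = true := by decide +kernel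

theorem yp1_0 : chk A 7 (yp1_l) = true := by decide +kernel

theorem self1 : selfB A 27 (kgens A 28) 2 3 [3, 4] (ivl 2 79) = true := by decide +kernel

theorem cov1 : coverB A (kgens A 27) 4 [2] (ivl 2 79) = true := by decide +kernel

theorem inv1 : invB A (kgens A 27) (ivl 2 79) = true := by decide +kernel

theorem inv0 : invB A (kgens A 26) (ivl 2 79) = true := by decide +kernel

theorem card6 : Nat.card (K A 33) = 1 := card_K_last A (le_of_eq hlen)

theorem cl5 : ∀ c ∈ cl5_l, Holds A c :=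
  (chk_spec hA cl5_0)

theorem stab5 : StabIs A 31 8 33 := stabIs_plain hA ok5 cl5

theorem card5 : Nat.card (K A 31) = 4 := card_K_step hA stab5 orb5 card6

theorem cl4 : ∀ c ∈ cl4_l, Holds A c :=
  (chk_spec hA cl4_0)

theorem stab4 : StabIs A 30 21 31 := stabIs_plain hA ok4 cl4

theorem card4 : Nat.card (K A 30) = 24 := card_K_step hA stab4 orb4 card5

theorem cl3 : ∀ c ∈ cl3_l, Holds A c :=
  (chk_spec hA cl3_0)

theorem stab3 : StabIs A 29 9 30 := stabIs_dc hA stab4 ok3 cl3

theorem card3 : Nat.card (K A 29) = 360 := card_K_step hA stab3 orb3 card4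

theorem cl2 : ∀ c ∈ cl2_l, Holds A c :=
  (chk_spec hA cl2_0)

theorem stab2 : StabIs A 28 26 29 := stabIs_dc hA stab3 ok2 cl2

theorem card2 : Nat.card (K A 28) = 5760 := card_K_step hA stab2 orb2 card3

theorem cl1 : ∀ c ∈ cl1_l, Holds A c :=
  (chk_spec hA cl1_0)

theorem stab1 : StabIs A 27 2 28 := stabIs_dc hA stab2 ok1 cl1

theorem card1 : Nat.card (K A 27) = 443520 := card_K_step hA stab1 orb1 card2

theorem cl0 : ∀ c ∈ cl0_l, Holds A c :=
  (chk_spec hA cl0_0)

theorem stab0 : StabIs A 26 0 27 := stabIs_plain hA ok0 cl0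

theorem card0 : Nat.card (K A 26) = 887040 := card_K_step hA stab0 orb0 card1

theorem fixTriv0 {B : Set ℕ} (h0 : 0 ∈ B) (h1 : 2 ∈ B) (h2 : 26 ∈ B) (h3 : 9 ∈ B) (h4 : 21 ∈ B) (h5 : 8 ∈ B) : FixTriv (K A 26) B :=
  fixTriv_step stab0 h0 <| fixTriv_step stab1 h1 <| fixTriv_step stab2 h2 <| fixTriv_step stab3 h3 <| fixTriv_step stab4 h4 <| fixTriv_step stab5 h5 <| fixTriv_last A (le_of_eq hlen) B

theorem fixTriv1 {B : Set ℕ} (h1 : 2 ∈ B) (h2 : 26 ∈ B) (h3 : 9 ∈ B) (h4 : 21 ∈ B) (h5 : 8 ∈ B) : FixTriv (K A 27) B :=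
  fixTriv_step stab1 h1 <| fixTriv_step stab2 h2 <| fixTriv_step stab3 h3 <| fixTriv_step stab4 h4 <| fixTriv_step stab5 h5 <| fixTriv_last A (le_of_eq hlen) B

theorem fixTriv2 {B : Set ℕ} (h2 : 26 ∈ B) (h3 : 9 ∈ B) (h4 : 21 ∈ B) (h5 : 8 ∈ B) : FixTriv (K A 28) B :=
  fixTriv_step stab2 h2 <| fixTriv_step stab3 h3 <| fixTriv_step stab4 h4 <| fixTriv_step stab5 h5 <| fixTriv_last A (le_of_eq hlen) B

theorem fixTriv3 {B : Set ℕ} (h3 : 9 ∈ B) (h4 : 21 ∈ B) (h5 : 8 ∈ B) : FixTriv (K A 29) B :=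
  fixTriv_step stab3 h3 <| fixTriv_step stab4 h4 <| fixTriv_step stab5 h5 <| fixTriv_last A (le_of_eq hlen) B

theorem fixTriv4 {B : Set ℕ} (h4 : 21 ∈ B) (h5 : 8 ∈ B) : FixTriv (K A 30) B :=
  fixTriv_step stab4 h4 <| fixTriv_step stab5 h5 <| fixTriv_last A (le_of_eq hlen) B

theorem fixTriv5 {B : Set ℕ} (h5 : 8 ∈ B) : FixTriv (K A 31) B :=
  fixTriv_step stab5 h5 <| fixTriv_last A (le_of_eq hlen) B

theorem max1 (L : Subgroup (Equiv.Perm ℕ)) (h1 : K A 28 ≤ L) (h2 : L ≤ K A 27) : L = K A 28 ∨ L = K A 27 :=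
  max_spec hA stab1 maxok1 h1 h2

theorem zcls1 : ∀ c ∈ zcls1_l, Holds A c :=
  (chk_spec hA zcls1_0)

theorem ncls1 (M : Subgroup (Equiv.Perm ℕ)) (hM : ∀ σ ∈ K A 27, ∀ n ∈ M, σ * n * σ⁻¹ ∈ M) (hy : pp A [0x027a6e] ∈ M) : K A 27 ≤ M :=
  have hz := z_mem hM hy (zc := zcs1) (by decide +kernel) zcls1
  ncl_step hA stab1 ncloks1_1 (by decide) hM (sub_z hz (by decide +kernel)) <|
  ncl_step hA stab2 ncloks1_2 (by decide) hM (sub_z hz (by decide +kernel)) <|
  ncl_step hA stab3 ncloks1_3 (by decide) hM (sub_z hz (by decide +kernel)) <|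
  ncl_step hA stab4 ncloks1_4 (by decide) hM (sub_z hz (by decide +kernel)) <|
  ncl_step hA stab5 ncloks1_5 (by decide) hM (sub_z hz (by decide +kernel)) <|
  K_last_le A (le_of_eq hlen) M

theorem yp1 : ∀ c ∈ yp1_l, Holds A c :=
  (chk_spec hA yp1_0)

theorem simple1 : IsSimpleGroup (K A 27) :=
  isSimpleGroup_K hA stab1 (exists_moved hA (j := 27) (by decide +kernel)) max1 (fixTriv1
    (mem_orbit_of_word hA (w := 1) (by decide +kernel))
    (mem_orbit_of_word hA (w := 0x137) (by decide +kernel))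
    (mem_orbit_of_word hA (w := 0x13739) (by decide +kernel))
    (mem_orbit_of_word hA (w := 0x1363d38) (by decide +kernel))
    (mem_orbit_of_word hA (w := 0x1363b38) (by decide +kernel)))
    (p := 11) (e := 1) (by norm_num) (by rw [card2]; norm_num) (pp_mem (l := [0x027a6e]) (by decide +kernel))
    (pow_of_claim yp1) ncls1

theorem fix0 : FixTriv (K A 26) (bset (ivl 2 79)) :=
  fixTriv_of_lb hA (l := 4) (lv := flv) (by decide +kernel) (by rw [card0]; decide +kernel) fun q hq =>
    mem_bset_of_bit (allL_spec (l := flv) (p := fun q => bit (ivl 2 79) q.1) (by decide +kernel) q hq)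


end Cfsg.Agent.Spor.J4B
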